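import Mathlib.AlgebraicGeometry.Sites.Etale
import Mathlib.Topology.Sober
import Mathlib.CategoryTheory.Sites.Point.Basic
import Mathlib.CategoryTheory.Filtered.Basic

/-! The scheme-theoretic points attached to a point of the small etale site. -/

set_option autoImplicit false
set_option linter.style.haveILetI false
set_option backward.isDefEq.respectTransparency false

universe u

open CategoryTheory CategoryTheory.Limits AlgebraicGeometry TopologicalSpace Opposite

noncomputable section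

namespace Groth.L27.EtPoints

variable {S : Scheme.{u}}

/-- the base as object of its small etale site -/
abbrev base (S : Scheme.{u}) : S.Etale := MorphismProperty.Over.mk ⊤ (𝟙 S) inferInstance

/-- an open of an etale scheme -/
abbrev openObj (X : S.Etale) (U : X.left.Opens) : S.Etale :=
  MorphismProperty.Over.mk ⊤ (U.ι ≫ X.hom) (haveI : Etale X.hom := X.prop; inferInstanceAs (Etale (U.ι ≫ X.hom)))

/-- the inclusion of an open -/
abbrev openHom (X : S.Etale) (U : X.left.Opens) : openObj X U ⟶ X := MorphismProperty.Over.homMk U.ι rfl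

/-- the map to the base -/
abbrev toBase (X : S.Etale) : X ⟶ base S := MorphismProperty.Over.homMk X.hom (Category.comp_id _)

theorem hom_ext {X Y : S.Etale} {f g : X ⟶ Y} (h : f.left = g.left) : f = g := MorphismProperty.Over.Hom.ext h

theorem hom_base_eq {X : S.Etale} (f g : X ⟶ base S) : f = g := hom_ext (by
  have h1 := MorphismProperty.Over.w f
  have h2 := MorphismProperty.Over.w g
  have h : f.left ≫ 𝟙 S = g.left ≫ 𝟙 S := h1.trans h2.symm
  exact (Category.comp_id _).symm.trans (h.trans (Category.comp_id _)))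

variable (p : GrothendieckTopology.Point.{u} S.smallEtaleTopology)

/-- the elements -/
abbrev el (X : S.Etale) (x : p.fiber.obj X) : p.fiber.Elements := ⟨X, x⟩

theorem common {X Y : S.Etale} (x : p.fiber.obj X) (y : p.fiber.obj Y) :
    ∃ (Z : S.Etale) (z : p.fiber.obj Z) (f : Z ⟶ X) (g : Z ⟶ Y), p.fiber.map f z = x ∧ p.fiber.map g z = y := by
  obtain ⟨⟨Z, z⟩, f, g, -⟩ := IsCofilteredOrEmpty.cone_objs (el p X x) (el p Y y)
  exact ⟨Z, z, f.val, g.val, f.property, g.property⟩

theorem equalize {Z X : S.Etale} (z : p.fiber.obj Z) (f g : Z ⟶ X) (h : p.fiber.map f z = p.fiber.map g z) :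
    ∃ (W : S.Etale) (w : p.fiber.obj W) (k : W ⟶ Z), p.fiber.map k w = z ∧ k ≫ f = k ≫ g := by
  let F : el p Z z ⟶ el p X (p.fiber.map g z) := CategoryOfElements.homMk _ _ f h
  let G : el p Z z ⟶ el p X (p.fiber.map g z) := CategoryOfElements.homMk _ _ g rfl
  obtain ⟨⟨W, w⟩, k, hk⟩ := IsCofilteredOrEmpty.cone_maps F G
  exact ⟨W, w, k.val, k.property, congrArg Subtype.val hk⟩

theorem map_comp_apply {X Y Z : S.Etale} (f : X ⟶ Y) (g : Y ⟶ Z) (x : p.fiber.obj X) :
    p.fiber.map (f ≫ g) x = p.fiber.map g (p.fiber.map f x) := by simp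

theorem nonempty_base : Nonempty (p.fiber.obj (base S)) := by
  obtain ⟨⟨X, x⟩⟩ := (IsCofiltered.nonempty : Nonempty p.fiber.Elements)
  exact ⟨p.fiber.map (toBase X) x⟩

theorem base_eq (a b : p.fiber.obj (base S)) : a = b := by
  obtain ⟨Z, z, f, g, hf, hg⟩ := common p a b
  rw [← hf, ← hg, hom_base_eq f g]

/-- an element lifts to the open -/
def Lifts {X : S.Etale} (x : p.fiber.obj X) (U : X.left.Opens) : Prop :=
  ∃ y : p.fiber.obj (openObj X U), p.fiber.map (openHom X U) y = x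

theorem openHom_injective {X : S.Etale} (U : X.left.Opens) : Function.Injective (p.fiber.map (openHom X U)) := by
  intro a b h
  obtain ⟨Z, z, f, g, hf, hg⟩ := common p a b
  obtain ⟨W, w, k, hk, e⟩ := equalize p z (f ≫ openHom X U) (g ≫ openHom X U) (by
    rw [map_comp_apply, map_comp_apply, hf, hg, h])
  have e' : k ≫ f = k ≫ g := by
    apply hom_ext
    rw [← cancel_mono U.ι]
    exact congrArg (fun m : W ⟶ X => m.left) ((Category.assoc k f _).trans (e.trans (Category.assoc k g _).symm))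
  rw [← hf, ← hg, ← hk, ← map_comp_apply, ← map_comp_apply, e']

/-- lifting through a map with image in the open -/
theorem lifts_of_range {X Z : S.Etale} {x : p.fiber.obj X} (z : p.fiber.obj Z) (f : Z ⟶ X) (hf : p.fiber.map f z = x)
    (U : X.left.Opens) (hU : Set.range f.left ⊆ (U : Set X.left)) : Lifts p x U := by
  let f' : Z ⟶ openObj X U := MorphismProperty.Over.homMk (IsOpenImmersion.lift U.ι f.left (fun q hq =>
    ⟨⟨q, hU hq⟩, rfl⟩)) (by
      show _ ≫ U.ι ≫ X.hom = _
      rw [← Category.assoc, IsOpenImmersion.lift_fac]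
      exact MorphismProperty.Over.w f)
  refine ⟨p.fiber.map f' z, ?_⟩
  have e : f' ≫ openHom X U = f := by
    apply hom_ext
    exact IsOpenImmersion.lift_fac _ _ _
  rw [← map_comp_apply, e, hf]

theorem lifts_top {X : S.Etale} (x : p.fiber.obj X) : Lifts p x ⊤ :=
  lifts_of_range p x (𝟙 X) (by simp) ⊤ (fun _ _ => trivial)

theorem exists_of_cover {X : S.Etale} (x : p.fiber.obj X) {ι : Type u} {Z : ι → S.Etale} (f : ∀ i, Z i ⟶ X)
    (hcov : ⋃ i, Set.range (f i).left = Set.univ) : ∃ i, ∃ z : p.fiber.obj (Z i), p.fiber.map (f i) z = x := by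
  obtain ⟨Y, g, hg, y, hy⟩ := p.jointly_surjective (Sieve.ofArrows Z f)
    (AlgebraicGeometry.Scheme.ofArrows_mem_smallEtaleTopology_iff f |>.2 hcov) x
  obtain ⟨_, a, b, ⟨i⟩, rfl⟩ := hg
  exact ⟨i, p.fiber.map a y, by rw [← map_comp_apply, hy]⟩

theorem not_lifts_bot {X : S.Etale} (x : p.fiber.obj X) : ¬ Lifts p x ⊥ := by
  rintro ⟨y, -⟩
  obtain ⟨i, -⟩ := exists_of_cover p y (ι := PEmpty.{u + 1}) (Z := fun i => i.elim) (fun i => i.elim) (by
    ext z
    exact absurd z.2 (fun h => by exact h.elim))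
  exact i.elim

theorem lifts_mono {X : S.Etale} {x : p.fiber.obj X} {U V : X.left.Opens} (h : U ≤ V) (hx : Lifts p x U) :
    Lifts p x V := by
  obtain ⟨y, hy⟩ := hx
  exact lifts_of_range p y _ hy V (by rintro _ ⟨a, rfl⟩; exact h a.2)

theorem lifts_inf {X : S.Etale} {x : p.fiber.obj X} {U V : X.left.Opens} (hU : Lifts p x U) (hV : Lifts p x V) :
    Lifts p x (U ⊓ V) := by
  obtain ⟨a, ha⟩ := hU
  obtain ⟨b, hb⟩ := hV
  obtain ⟨Z, z, f, g, hf, hg⟩ := common p a b
  obtain ⟨W, w, k, hk, e⟩ := equalize p z (f ≫ openHom X U) (g ≫ openHom X V) (by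
    rw [map_comp_apply, map_comp_apply, hf, hg, ha, hb])
  refine lifts_of_range p w (k ≫ f ≫ openHom X U) (by rw [map_comp_apply, hk, map_comp_apply, hf, ha]) _ ?_
  rintro _ ⟨q, rfl⟩
  refine ⟨((k ≫ f).left q).2, ?_⟩
  rw [e]
  exact ((k ≫ g).left q).2

theorem lifts_iSup {X : S.Etale} {x : p.fiber.obj X} {ι : Type u} (U : ι → X.left.Opens) (hx : Lifts p x (iSup U)) :
    ∃ i, Lifts p x (U i) := by
  obtain ⟨a, ha⟩ := hx
  let O : X.left.Opens := iSup U
  obtain ⟨i, z, hz⟩ := exists_of_cover p a (Z := fun i => openObj (openObj X O) (O.ι ⁻¹ᵁ U i))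
    (fun i => openHom _ _) (by
      ext q
      simp only [Set.mem_iUnion, Set.mem_univ, iff_true]
      obtain ⟨i, hi⟩ := Opens.mem_iSup.1 q.2
      exact ⟨i, ⟨⟨q, hi⟩, rfl⟩⟩)
  refine ⟨i, lifts_of_range p z (openHom _ _ ≫ openHom X O) (by rw [map_comp_apply, hz, ha]) _ ?_⟩
  rintro _ ⟨q, rfl⟩
  exact q.2

/-- the point under an element -/
theorem exists_pt {X : S.Etale} (x : p.fiber.obj X) : ∃ q : X.left, ∀ U : X.left.Opens, Lifts p x U ↔ q ∈ U := by
  let I := {U : X.left.Opens // ¬ Lifts p x U}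
  let N : X.left.Opens := iSup fun U : I => U.1
  have hN : ¬ Lifts p x N := fun h => by
    obtain ⟨i, hi⟩ := lifts_iSup p _ h
    exact i.2 hi
  have hiff : ∀ U : X.left.Opens, Lifts p x U ↔ ((U : Set X.left) ∩ (N : Set X.left)ᶜ).Nonempty := by
    intro U
    constructor
    · intro h
      by_contra hne
      rw [Set.not_nonempty_iff_eq_empty] at hne
      refine hN (lifts_mono p (fun q hq => ?_) h)
      by_contra hqN
      exact Set.eq_empty_iff_forall_notMem.1 hne q ⟨hq, hqN⟩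
    · rintro ⟨q, hqU, hqN⟩
      by_contra h
      exact hqN (Opens.mem_iSup.2 ⟨⟨U, h⟩, hqU⟩)
  have hirr : IsIrreducible (N : Set X.left)ᶜ := by
    refine ⟨?_, fun A B hA hB hA' hB' => ?_⟩
    · obtain ⟨q, -, hq⟩ := (hiff ⊤).1 (lifts_top p x)
      exact ⟨q, hq⟩
    · rw [Set.inter_comm] at hA' hB'
      have := (hiff (⟨A, hA⟩ ⊓ ⟨B, hB⟩)).1 (lifts_inf p ((hiff ⟨A, hA⟩).2 hA') ((hiff ⟨B, hB⟩).2 hB'))
      rwa [Set.inter_comm] at this
  obtain ⟨q, hq⟩ := QuasiSober.sober hirr N.2.isClosed_compl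
  refine ⟨q, fun U => (hiff U).trans ?_⟩
  rw [Set.inter_comm]
  exact (hq.mem_open_set_iff U.2).symm

/-- the point under an element -/
def pt {X : S.Etale} (x : p.fiber.obj X) : X.left := (exists_pt p x).choose

theorem lifts_iff {X : S.Etale} (x : p.fiber.obj X) (U : X.left.Opens) : Lifts p x U ↔ pt p x ∈ U :=
  (exists_pt p x).choose_spec U

theorem map_pt {X Y : S.Etale} (f : X ⟶ Y) (x : p.fiber.obj X) : f.left (pt p x) = pt p (p.fiber.map f x) := by
  have key : ∀ V : Y.left.Opens, f.left (pt p x) ∈ V ↔ pt p (p.fiber.map f x) ∈ V := by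
    intro V
    rw [← lifts_iff]
    show pt p x ∈ f.left ⁻¹ᵁ V ↔ _
    rw [← lifts_iff]
    constructor
    · rintro ⟨a, ha⟩
      exact lifts_of_range p a (openHom _ _ ≫ f) (by rw [map_comp_apply, ha]) V (by rintro _ ⟨q, rfl⟩; exact q.2)
    · rintro ⟨b, hb⟩
      obtain ⟨Z, z, g, h, hg, hh⟩ := common p x b
      obtain ⟨W, w, k, hk, e⟩ := equalize p z (g ≫ f) (h ≫ openHom Y V) (by
        rw [map_comp_apply, map_comp_apply, hg, hh, hb])
      refine lifts_of_range p w (k ≫ g) (by rw [map_comp_apply, hk, hg]) _ ?_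
      rintro _ ⟨q, rfl⟩
      show (k ≫ g ≫ f).left q ∈ V
      rw [e]
      exact ((k ≫ h).left q).2
  exact Inseparable.eq (inseparable_iff_forall_isOpen.2 fun s hs => key ⟨s, hs⟩)

end Groth.L27.EtPoints
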