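import Mathlib.AlgebraicGeometry.Sites.EtalePoint
import Mathlib.AlgebraicGeometry.Morphisms.FormallyUnramified
import Mathlib.FieldTheory.IsSepClosed
import Mathlib.FieldTheory.Normal.Basic
import Mathlib.RingTheory.Unramified.LocalRing
import Mathlib.RingTheory.RingHom.Finite
import Mathlib.AlgebraicGeometry.Morphisms.QuasiFinite
import Mathlib.RingTheory.Unramified.LocalStructure

/-! Geometric points of an etale scheme over a fixed point are finite and conjugate. -/

set_option autoImplicit false
set_option linter.style.haveILetI false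
set_option backward.isDefEq.respectTransparency.types false

universe u

open CategoryTheory AlgebraicGeometry

noncomputable section

namespace Groth.L27.EtPoints

variable {X S : Scheme.{u}}

theorem finite_residueField (f : X ⟶ S) [Etale f] (x : X) :
    letI := (f.residueFieldMap x).hom.toAlgebra
    Module.Finite (S.residueField (f x)) (X.residueField x) := by
  algebraize [(f.stalkMap x).hom]
  have : IsLocalHom (algebraMap (S.presheaf.stalk (f x)) (X.presheaf.stalk x)) :=
    inferInstanceAs <| IsLocalHom (f.stalkMap x).hom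
  have : Algebra.EssFiniteType (S.presheaf.stalk (f x)) (X.presheaf.stalk x) := by
    rw [← RingHom.essFiniteType_algebraMap, RingHom.algebraMap_toAlgebra]
    exact LocallyOfFiniteType.stalkMap f x
  have : Algebra.FormallyUnramified (S.presheaf.stalk (f x)) (X.presheaf.stalk x) := by
    rw [← RingHom.formallyUnramified_algebraMap, RingHom.algebraMap_toAlgebra]
    exact FormallyUnramified.stalkMap f x
  have h : Module.Finite
      (IsLocalRing.ResidueField <| S.presheaf.stalk (f x))
      (IsLocalRing.ResidueField <| X.presheaf.stalk x) := inferInstance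
  have e : (algebraMap (IsLocalRing.ResidueField <| S.presheaf.stalk (f x))
      (IsLocalRing.ResidueField <| X.presheaf.stalk x)) = (f.residueFieldMap x).hom := by
    apply RingHom.ext
    intro z
    obtain ⟨z, rfl⟩ := IsLocalRing.residue_surjective z
    rfl
  have h' := RingHom.finite_algebraMap.2 h
  rw [e] at h'
  exact h'

theorem locallyQuasiFinite_of_etale (f : X ⟶ S) [Etale f] : LocallyQuasiFinite f := by
  rw [HasRingHomProperty.iff_appLE (P := @LocallyQuasiFinite)]
  intro V U e
  have h := HasRingHomProperty.appLE @Etale f inferInstance V U e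
  algebraize [(f.appLE V U e).hom]
  exact RingHom.quasiFinite_algebraMap.2 inferInstance

/-- the geometric point at a point -/
abbrev geom (S : Scheme.{u}) (s : S) : Spec (CommRingCat.of (SeparableClosure (S.residueField s))) ⟶ S :=
  Spec.map (CommRingCat.ofHom (algebraMap (S.residueField s) (SeparableClosure (S.residueField s)))) ≫
    S.fromSpecResidueField s

/-- lifts of the geometric point through a given point -/
abbrev LiftsAt (f : X ⟶ S) (s : S) (x : X) : Type u :=
  {l : Spec (CommRingCat.of (SeparableClosure (S.residueField s))) ⟶ X // l ≫ f = geom S s ∧ l default = x}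

theorem fibre_facts (f : X ⟶ S) [Etale f] (x : X) :
    Finite (LiftsAt f (f x) x) ∧ ∀ l l' : LiftsAt f (f x) x,
      ∃ g : Spec (CommRingCat.of (SeparableClosure (S.residueField (f x)))) ≅
          Spec (CommRingCat.of (SeparableClosure (S.residueField (f x)))),
        g.hom ≫ geom S (f x) = geom S (f x) ∧ g.hom ≫ l.1 = l'.1 := by
  let k := S.residueField (f x)
  let Ω := SeparableClosure k
  let L := X.residueField x
  letI : Algebra k L := (f.residueFieldMap x).hom.toAlgebra
  haveI : Module.Finite k L := finite_residueField f x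
  let F : (L →ₐ[k] Ω) → (Spec (CommRingCat.of Ω) ⟶ X) := fun b =>
    Spec.map (CommRingCat.ofHom b.toRingHom) ≫ X.fromSpecResidueField x
  have hsurj : ∀ l : LiftsAt f (f x) x, ∃ b, F b = l.1 := by
    rintro ⟨l, hl, hx⟩
    obtain ⟨⟨y, φ⟩, rfl⟩ := (Scheme.SpecToEquivOfField Ω X).symm.surjective l
    obtain rfl : y = x := by
      rw [← hx]
      exact (X.fromSpecResidueField_apply y _).symm
    have h1 : f.residueFieldMap y ≫ φ = CommRingCat.ofHom (algebraMap k Ω) := by
      apply Spec.map_injective
      rw [← cancel_mono (S.fromSpecResidueField (f y)), Spec.map_comp, Category.assoc,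
        Scheme.Hom.SpecMap_residueFieldMap_fromSpecResidueField, ← Category.assoc]
      exact hl
    exact ⟨{ φ.hom with commutes' := fun r => congr($h1 r) }, rfl⟩
  choose b hb using hsurj
  refine ⟨Finite.of_injective b fun l l' h => Subtype.ext (by rw [← hb, ← hb, h]), fun l l' => ?_⟩
  letI : Algebra L Ω := (b l).toRingHom.toAlgebra
  haveI : IsScalarTower k L Ω := IsScalarTower.of_algebraMap_eq fun r => ((b l).commutes r).symm
  let σ : Ω →ₐ[k] Ω := (b l').liftNormal Ω
  have hσ : ∀ z, σ ((b l) z) = b l' z := fun z => (b l').liftNormal_commutes Ω z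
  let e : Ω ≃ₐ[k] Ω := AlgEquiv.ofBijective σ (AlgHom.normal_bijective k Ω Ω σ)
  let g : Spec (CommRingCat.of Ω) ≅ Spec (CommRingCat.of Ω) :=
    Scheme.Spec.mapIso (e.toRingEquiv.toCommRingCatIso).op
  have hg : g.hom = Spec.map (CommRingCat.ofHom σ.toRingHom) := rfl
  refine ⟨g, ?_, ?_⟩
  · rw [hg]
    show _ ≫ Spec.map _ ≫ _ = Spec.map _ ≫ _
    rw [← Category.assoc, ← Spec.map_comp, ← CommRingCat.ofHom_comp]
    congr 3
    exact σ.comp_algebraMap
  · rw [hg, ← hb l, ← hb l']
    show _ ≫ Spec.map _ ≫ _ = Spec.map _ ≫ _
    rw [← Category.assoc, ← Spec.map_comp, ← CommRingCat.ofHom_comp]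
    congr 3
    exact RingHom.ext fun z => hσ z

theorem fibre_facts' (f : X ⟶ S) [Etale f] (s : S) (x : X) (h : f x = s) :
    Finite (LiftsAt f s x) ∧ ∀ l l' : LiftsAt f s x,
      ∃ g : Spec (CommRingCat.of (SeparableClosure (S.residueField s))) ≅
          Spec (CommRingCat.of (SeparableClosure (S.residueField s))),
        g.hom ≫ geom S s = geom S s ∧ g.hom ≫ l.1 = l'.1 := by
  subst h
  exact fibre_facts f x

theorem geom_default (S : Scheme.{u}) (s : S) : geom S s default = s := by
  show (Spec.map _ ≫ S.fromSpecResidueField s) default = s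
  rw [Scheme.Hom.comp_apply]
  exact S.fromSpecResidueField_apply s _

theorem apply_default (f : X ⟶ S) (s : S) (l : Spec (CommRingCat.of (SeparableClosure (S.residueField s))) ⟶ X)
    (h : l ≫ f = geom S s) : f (l default) = s := by
  rw [← Scheme.Hom.comp_apply, h]
  exact geom_default S s

theorem nonempty_lifts (f : X ⟶ S) [Etale f] (s : S) (x : X) (h : f x = s) : Nonempty (LiftsAt f s x) := by
  obtain ⟨l, h1, h2⟩ := AlgebraicGeometry.Scheme.exists_fac_of_etale_of_isSepClosed f (geom S s) x
    (h.trans (geom_default S s).symm)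
  exact ⟨⟨l, h1, h2⟩⟩

end Groth.L27.EtPoints
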