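import Groth.Agent.L27.EtPoints.Basic
import Groth.Agent.L27.EtPoints.Galois
import Mathlib.CategoryTheory.CofilteredSystem
import Mathlib.AlgebraicGeometry.Morphisms.UniversallyOpen
import Mathlib.AlgebraicGeometry.Morphisms.QuasiFinite

/-! Points of the small etale site are geometric points. -/

set_option autoImplicit false
set_option linter.style.haveILetI false
set_option backward.isDefEq.respectTransparency false

universe u

open CategoryTheory CategoryTheory.Limits AlgebraicGeometry TopologicalSpace Opposite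

noncomputable section

namespace Groth.L27.EtPoints

variable {S : Scheme.{u}} (p : GrothendieckTopology.Point.{u} S.smallEtaleTopology)

/-- the underlying point -/
def centre : S := pt p (nonempty_base p).some

theorem hom_pt {X : S.Etale} (x : p.fiber.obj X) : X.hom (pt p x) = centre p := by
  exact (map_pt p (toBase X) x).trans (congrArg (pt p) (base_eq p _ _))

/-- the candidate geometric point -/
abbrev ξ₀ := geom S (centre p)

/-- lifts through the point under an element -/
def liftsFunctor : p.fiber.Elements ⥤ Type u where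
  obj e := LiftsAt e.1.hom (centre p) (pt p e.2)
  map {e e'} φ := ↾fun l => ⟨l.1 ≫ φ.val.left, by
    rw [Category.assoc]
    exact (congrArg (l.1 ≫ ·) (MorphismProperty.Over.w φ.val)).trans l.2.1, by
    show φ.val.left (l.1 default) = _
    exact (congrArg (fun q => φ.val.left q) l.2.2).trans ((map_pt p φ.val e.2).trans (congrArg (pt p) φ.property))⟩
  map_id e := ConcreteCategory.hom_ext _ _ fun l => Subtype.ext (Category.comp_id _)
  map_comp φ ψ := ConcreteCategory.hom_ext _ _ fun l => Subtype.ext (Category.assoc _ _ _).symm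

theorem exists_section : ∃ η : ∀ (X : S.Etale) (x : p.fiber.obj X), LiftsAt X.hom (centre p) (pt p x),
    ∀ {X Y : S.Etale} (f : X ⟶ Y) (x : p.fiber.obj X), (η X x).1 ≫ f.left = (η Y (p.fiber.map f x)).1 := by
  haveI : ∀ e, Finite ((liftsFunctor p).obj e) := fun e => by
    haveI : Etale e.1.hom := e.1.prop
    exact (fibre_facts' e.1.hom (centre p) (pt p e.2) (hom_pt p e.2)).1
  haveI : ∀ e, Nonempty ((liftsFunctor p).obj e) := fun e => by
    haveI : Etale e.1.hom := e.1.prop
    exact nonempty_lifts e.1.hom (centre p) (pt p e.2) (hom_pt p e.2)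
  obtain ⟨s, hs⟩ := nonempty_sections_of_finite_cofiltered_system (liftsFunctor p)
  exact ⟨fun X x => s ⟨X, x⟩, fun {X Y} f x =>
    congrArg Subtype.val (hs (CategoryOfElements.homMk ⟨X, x⟩ ⟨Y, p.fiber.map f x⟩ f rfl))⟩

theorem exists_iso : Nonempty (p.fiber ≅ (Scheme.pointSmallEtale (ξ₀ p)).fiber) := by
  classical
  obtain ⟨η, hη⟩ := exists_section p
  let Φ : ∀ X : S.Etale, p.fiber.obj X → (Scheme.pointSmallEtale (ξ₀ p)).fiber.obj X := fun X x =>
    (Over.homMk (η X x).1 (η X x).2.1 : Over.mk (ξ₀ p) ⟶ (Scheme.Etale.forget S).obj X)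
  have hinj : ∀ X, Function.Injective (Φ X) := by
    intro X a b h
    haveI : Etale X.hom := X.prop
    have h' : (η X a).1 = (η X b).1 := congrArg CommaMorphism.left h
    obtain ⟨Z, z, f, g, hf, hg⟩ := common p a b
    let c : Z.left ⟶ pullback X.hom X.hom := pullback.lift f.left g.left
      ((MorphismProperty.Over.w f).trans (MorphismProperty.Over.w g).symm)
    let U : Z.left.Opens := c ⁻¹ᵁ (pullback.diagonal X.hom).opensRange
    have hz : pt p z ∈ U := by
      refine ⟨(η X a).1 default, ?_⟩
      refine Eq.trans ?_ (congrArg (fun q => c q) (η Z z).2.2)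
      show ((η X a).1 ≫ pullback.diagonal X.hom) default = ((η Z z).1 ≫ c) default
      refine congrArg (fun m : Spec (CommRingCat.of (SeparableClosure (S.residueField (centre p)))) ⟶
        pullback X.hom X.hom => m default) ?_
      apply pullback.hom_ext
      · rw [Category.assoc, Category.assoc, pullback.diagonal_fst, pullback.lift_fst, Category.comp_id, hη, hf]
      · rw [Category.assoc, Category.assoc, pullback.diagonal_snd, pullback.lift_snd, Category.comp_id, hη, hg]
        exact h'
    obtain ⟨y, hy⟩ := (lifts_iff p z U).2 hz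
    have e : openHom Z U ≫ f = openHom Z U ≫ g := by
      apply hom_ext
      show U.ι ≫ f.left = U.ι ≫ g.left
      let d : U.toScheme ⟶ X.left := IsOpenImmersion.lift (pullback.diagonal X.hom) (U.ι ≫ c) (by
        rintro _ ⟨q, rfl⟩
        exact q.2)
      have hd : d ≫ pullback.diagonal X.hom = U.ι ≫ c := IsOpenImmersion.lift_fac _ _ _
      have h1 := congrArg (· ≫ pullback.fst X.hom X.hom) hd
      have h2 := congrArg (· ≫ pullback.snd X.hom X.hom) hd
      simp only [Category.assoc, pullback.diagonal_fst, pullback.diagonal_snd, Category.comp_id, c,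
        pullback.lift_fst, pullback.lift_snd] at h1 h2
      rw [← h1, ← h2]
    rw [← hf, ← hg, ← hy, ← map_comp_apply, ← map_comp_apply, e]
  have hsurj : ∀ X, Function.Surjective (Φ X) := by
    intro X v
    haveI : Etale X.hom := X.prop
    let vl : Spec (CommRingCat.of (SeparableClosure (S.residueField (centre p)))) ⟶ X.left := v.left
    let y : X.left := vl default
    have hv : vl ≫ X.hom = ξ₀ p := Over.w v
    have hy : X.hom y = centre p := apply_default X.hom (centre p) vl hv
    let F := LiftsAt X.hom (centre p) y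
    obtain ⟨hF, -⟩ := fibre_facts' X.hom (centre p) y hy
    haveI : Fintype F := Fintype.ofFinite F
    let V : F → (Scheme.pointSmallEtale (ξ₀ p)).fiber.Elements := fun l =>
      ⟨X, (Over.homMk l.1 l.2.1 : Over.mk (ξ₀ p) ⟶ (Scheme.Etale.forget S).obj X)⟩
    obtain ⟨⟨P, ζ⟩, hP⟩ := IsCofiltered.inf_objs_exists (Finset.univ.image V)
    have hπ : ∀ l : F, ∃ f : P ⟶ X, (ζ.left : Spec (CommRingCat.of (SeparableClosure (S.residueField (centre p)))) ⟶ P.left) ≫ f.left = l.1 := fun l => by
      obtain ⟨φ⟩ := hP (X := V l) (Finset.mem_image_of_mem _ (Finset.mem_univ _))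
      exact ⟨φ.val, congrArg CommaMorphism.left φ.property⟩
    choose π hπ using hπ
    haveI : Etale P.hom := P.prop
    let ζl : Spec (CommRingCat.of (SeparableClosure (S.residueField (centre p)))) ⟶ P.left := ζ.left
    let w : P.left := ζl default
    let ph : P.left ⟶ S := P.hom
    haveI : Etale ph := P.prop
    have hw : P.hom w = centre p := apply_default P.hom (centre p) ζl (Over.w ζ)
    -- isolate `w` in the fibre
    haveI : LocallyQuasiFinite ph := locallyQuasiFinite_of_etale ph
    obtain ⟨O, hO, hwO⟩ : ∃ O : Set P.left, IsOpen O ∧ ∀ q, P.hom q = centre p → (q ∈ O ↔ q = w) := by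
      have hdisc : IsOpen ({⟨w, hw⟩} : Set ↥(P.hom ⁻¹' {centre p})) := by
        haveI : DiscreteTopology ↥(P.hom ⁻¹' {centre p}) :=
          isDiscrete_iff_discreteTopology.1 (ph.isDiscrete_preimage_singleton (centre p))
        exact isOpen_discrete _
      obtain ⟨O, hO, e⟩ := isOpen_induced_iff.1 hdisc
      refine ⟨O, hO, fun q hq => ?_⟩
      have := Set.ext_iff.1 e ⟨q, hq⟩
      simpa [Subtype.ext_iff] using this
    let O' : P.left.Opens := ⟨O, hO⟩
    let PO := openObj P O'
    let pof : PO.left ⟶ S := PO.hom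
    haveI : Etale pof := PO.prop
    let T : S.Opens := ⟨Set.range pof, pof.isOpenMap.isOpen_range⟩
    have hT : pt p (nonempty_base p).some ∈ T := ⟨⟨w, (hwO w hw).2 rfl⟩, hw⟩
    obtain ⟨t, ht⟩ := (lifts_iff p (nonempty_base p).some T).2 hT
    let r : PO ⟶ openObj (base S) T := MorphismProperty.Over.homMk
      (IsOpenImmersion.lift T.ι pof (fun q hq => ⟨⟨q, hq⟩, rfl⟩)) (by
        show _ ≫ T.ι ≫ 𝟙 S = _
        rw [Category.comp_id, IsOpenImmersion.lift_fac])
    obtain ⟨-, a, ha⟩ := exists_of_cover p t (ι := PUnit.{u + 1}) (fun _ => r) (by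
      refine Set.eq_univ_of_forall fun q => Set.mem_iUnion.2 ⟨⟨⟩, ?_⟩
      obtain ⟨q', hq'⟩ : (q.1 : S) ∈ Set.range pof := q.2
      refine ⟨q', T.ι.isOpenEmbedding.injective ?_⟩
      show (IsOpenImmersion.lift T.ι pof _ ≫ T.ι) q' = _
      rw [IsOpenImmersion.lift_fac, hq']; rfl)
    let b := p.fiber.map (openHom P O') a
    have hb : pt p b = w := by
      refine (hwO _ (hom_pt p b)).1 ?_
      exact (lifts_iff p b O').1 ⟨a, rfl⟩
    obtain ⟨g, hg, hgl⟩ := (fibre_facts' P.hom (centre p) w hw).2 ⟨ζl, Over.w ζ, rfl⟩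
      ⟨(η P b).1, (η P b).2.1, (η P b).2.2.trans hb⟩
    have hgd : ∀ {Y : Scheme.{u}} (m : Spec (CommRingCat.of (SeparableClosure (S.residueField (centre p)))) ⟶ Y),
        (g.inv ≫ m) default = m default := fun m => by
      rw [Scheme.Hom.comp_apply]
      exact congrArg m (Subsingleton.elim (α := PrimeSpectrum (SeparableClosure (S.residueField (centre p)))) _ _)
    let l : F := ⟨g.inv ≫ vl, by rw [Category.assoc, hv, Iso.inv_comp_eq]; exact hg.symm, hgd _⟩
    refine ⟨p.fiber.map (π l) b, Over.OverMorphism.ext ?_⟩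
    show (η X _).1 = vl
    rw [← hη, ← hgl, Category.assoc, hπ l]
    exact g.hom_inv_id_assoc vl
  exact ⟨NatIso.ofComponents (fun X => (Equiv.ofBijective (Φ X) ⟨hinj X, hsurj X⟩).toIso) fun {X Y} f =>
    ConcreteCategory.hom_ext _ _ fun x => Over.OverMorphism.ext (hη f x).symm⟩

end Groth.L27.EtPoints
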